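import Cfsg.Agent.Tri.Base
import Cfsg.Agent.K3.Tool
import Cfsg.Agent.ExC.Pair

/-! S3645: the numerical data of the principal block exist. -/

set_option autoImplicit false
set_option linter.style.haveILetI false
set_option linter.unusedSectionVars false

namespace Cfsg.Agent.Tri

open Subgroup Cfsg.Agent.Char Cfsg.Agent.Char.Euclid Cfsg.Agent.Block Cfsg.Agent.Math Cfsg.Agent.K3
open scoped ComplexConjugate

variable {G : Type*} [Group G] [Finite G] {p : ℕ}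

/-- the degree equation has only one solution -/
def Uniq (p m a b c : ℕ) : Prop :=
  ∀ x y z : ℕ, ∀ ε η δ : ℤ, x ∣ m → y ∣ m → z ∣ m → 1 < x → 1 < y → 1 < z → x ≤ y →
    (ε = 1 ∨ ε = -1) → (η = 1 ∨ η = -1) → (δ = 1 ∨ δ = -1) → (x : ℤ) ≡ ε [ZMOD p] →
    (y : ℤ) ≡ η [ZMOD p] → δ * z = 1 + ε * x + η * y →
    x = a ∧ y = b ∧ z = c ∧ ε = -1 ∧ η = -1 ∧ δ = -1

theorem int_sum {χ : IrrCharacter G} {f : G → ℤ} (hf : ∀ g, χ.1 g = f g) (H : Subgroup G)
    (s : Finset G) (hs : ∀ g, g ∈ s ↔ g ∈ H) : ∃ n : ℕ, ∑ g ∈ s, f g = Nat.card H * n := by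
  haveI := Fintype.ofFinite H
  obtain ⟨n, hn⟩ := ExC.exists_nat_sum (H := H) χ.2.isCharacter
  refine ⟨n, ?_⟩
  rw [← Finset.sum_subtype s hs fun g => χ.1 g] at hn
  simp only [hf] at hn
  exact_mod_cast hn

theorem int_cong {χ : IrrCharacter G} {f : G → ℤ} (hf : ∀ g, χ.1 g = f g) {q : ℕ} (hq : q.Prime)
    (k : ℕ) : ∀ g : G, g ^ q ^ k = 1 → (q : ℤ) ∣ f 1 - f g := by
  induction k with
  | zero => intro g hg; rw [pow_zero, pow_one] at hg; simp [hg]
  | succ k ih =>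
    intro g hg
    have h1 := ih (g ^ q) (by rw [← pow_mul, ← pow_succ', hg])
    have h2 := dvd_sub_of_pow χ.2.isCharacter hq (hf g) (hf (g ^ q))
    have := dvd_sub h1 h2
    rwa [sub_sub_sub_cancel_right] at this

theorem int_omega {χ : IrrCharacter G} {g : G} {w : ℤ} (h : χ.1 g = w) :
    ((dg χ * cc g : ℕ) : ℤ) ∣ (Nat.card G : ℕ) * w := by
  obtain ⟨k, hk, -⟩ := exists_omega h
  refine ⟨k, ?_⟩
  rw [← (centralizer ({g} : Set G)).index_mul_card]
  push_cast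
  linear_combination (cc g : ℤ) * hk

theorem int_zero {χ : IrrCharacter G} {q : ℕ} (hq : q.Prime) (h : ¬ q * dg χ ∣ Nat.card G) {g : G}
    (hg : q ∣ orderOf g) : χ.1 g = 0 := by
  obtain ⟨r, hr⟩ := dg_dvd χ
  refine χ.2.eq_zero_of_defect_zero hq (dg_cast χ).symm hr (fun h1 => h ?_) hg
  rw [hr, mul_comm q]
  exact Nat.mul_dvd_mul_left _ h1

theorem exists_dat [IsSimpleGroup G] (hG : ¬ IsMulCommutative G) [hp : Fact p.Prime] {u : G}
    (D : BD p u) (hc : D.c = 1) (he : D.e = 3) {m a b c t : ℕ} (card : Nat.card G = p * m)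
    (ht : t * 3 = p - 1) (hab : a ≠ b) (hac : a ≠ c) (hbc : b ≠ c) (hs : Uniq p m a b c) :
    Nonempty (Dat G p m a b c t) := by
  classical
  haveI := Fintype.ofFinite G
  have hC := D.cent_of_c hc
  have ord : ∀ g : G, p ∣ orderOf g → orderOf g = p := fun g =>
    Grp.SelfCent.orderOf_eq_of_dvd D.ox hC
  have up : p ∣ orderOf u := D.ox ▸ dvd_rfl
  obtain ⟨φ, ψ, hne, hle, hφ⟩ : ∃ φ ψ, φ ≠ ψ ∧ dg φ ≤ dg ψ ∧ D.X.erase (irrOne G) = {φ, ψ} := by
    obtain ⟨φ, ψ, h1, h2⟩ := Finset.card_eq_two.1 (show (D.X.erase (irrOne G)).card = 2 by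
      rw [Finset.card_erase_of_mem D.h1, D.cardX, he])
    rcases le_total (dg φ) (dg ψ) with h | h
    · exact ⟨φ, ψ, h1, h, h2⟩
    · exact ⟨ψ, φ, h1.symm, h, h2.trans (Finset.pair_comm _ _)⟩
  obtain ⟨φ1, φX⟩ := Finset.mem_erase.1 (hφ ▸ Finset.mem_insert_self φ {ψ})
  obtain ⟨ψ1, ψX⟩ := Finset.mem_erase.1
    (hφ ▸ Finset.mem_insert_of_mem (b := φ) (Finset.mem_singleton_self ψ))
  have hX : D.X = {irrOne G, φ, ψ} := by rw [← Finset.insert_erase D.h1, hφ]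
  have sX : ∀ {M : Type} [AddCommMonoid M] (f : IrrCharacter G → M),
      ∑ χ ∈ D.X, f χ = f (irrOne G) + (f φ + f ψ) := fun f => by
    rw [hX, Finset.sum_insert (by simp [φ1.symm, ψ1.symm]), Finset.sum_pair hne]
  obtain ⟨θ, hθ⟩ := D.Y_nonempty
  have θ1 : θ ≠ irrOne G := fun h => Finset.disjoint_left.1 D.disj D.h1 (h ▸ hθ)
  have e := D.deg_eq
  rw [sX, D.ε_one, one_mul] at e
  change _ = (dg (irrOne G) : ℤ) + (_ * dg φ + _ * dg ψ) at e
  rw [dg_irrOne, ← D.dg_Y hθ] at e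
  have n1 : ∀ χ, χ ≠ irrOne G → 1 < dg χ := fun χ h =>
    lt_of_le_of_ne (dg_pos χ) fun h1 => h (dg_eq_one hG _ h1.symm)
  have pm : ¬ p ∣ m := fun h => D.nsq (by rw [card, sq]; exact Nat.mul_dvd_mul_left _ h)
  have cop : ∀ {n}, ¬ p ∣ n → n ∣ Nat.card G → n ∣ m := fun h1 h2 =>
    ((Nat.Prime.coprime_iff_not_dvd hp.out).2 h1).symm.dvd_of_dvd_mul_left (card ▸ h2)
  obtain ⟨da, db, dc, e1, e2, e3⟩ := hs (dg φ) (dg ψ) (dg θ) (D.ε φ) (D.ε ψ) D.δ
    (cop (D.not_dvd_dg (D.mem_blk.2 (.inl φX))) (dg_dvd φ))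
    (cop (D.not_dvd_dg (D.mem_blk.2 (.inl ψX))) (dg_dvd ψ))
    (cop (D.not_dvd_dg (D.mem_blk.2 (.inr hθ))) (dg_dvd θ)) (n1 φ φ1) (n1 ψ ψ1) (n1 θ θ1) hle
    (D.sign φ φX) (D.sign ψ ψX) D.signY (D.degX φ φX) (D.degX ψ ψX) (by rw [e]; push_cast; ring)
  have dY : ∀ χ ∈ D.Y, dg χ = c := fun χ h => by rw [D.dg_Y h, ← D.dg_Y hθ, dc]
  have vφ : φ.1 u = (-1 : ℤ) := e1 ▸ D.valX_of_dvd D.ox hC φX up
  have vψ : ψ.1 u = (-1 : ℤ) := e2 ▸ D.valX_of_dvd D.ox hC ψX up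
  have rat : ∀ χ : IrrCharacter G, χ ≠ irrOne G → χ.1 u = (-1 : ℤ) → dg χ ≠ c →
      (∀ χ' ∈ D.X, χ' ≠ irrOne G → dg χ' = dg χ → χ' = χ) → ∀ g, ∃ z : ℤ, χ.1 g = z :=
    fun χ h1 h2 h3 h4 => rat_of χ fun σ => by
      by_contra h
      have := D.out hC (galIrr σ χ) (fun h5 => h (h4 _ h5
        (fun e => (n1 χ h1).ne' (by rw [← dg_gal σ, e, dg_irrOne])) (dg_gal σ χ)))
        (fun h => h3 (by rw [← dg_gal σ, dY _ h])) u up
      rw [galIrr_apply, h2, map_intCast, Int.cast_eq_zero] at this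
      omega
  have mX : ∀ χ ∈ D.X, χ ≠ irrOne G → χ = φ ∨ χ = ψ := fun χ h h1 => by
    simpa [hX, h1] using h
  have rφ := rat φ φ1 vφ (da ▸ hac) fun χ h h1 h2 =>
    (mX χ h h1).resolve_right fun e => hab (by rw [← da, ← db, ← h2, e])
  have rψ := rat ψ ψ1 vψ (db ▸ hbc) fun χ h h1 h2 =>
    (mX χ h h1).resolve_left fun e => hab (by rw [← da, ← db, ← h2, e])
  choose f hf using rφ
  choose k hk using rψ
  have vY : ∀ χ ∈ D.Y, ∀ g, ¬ p ∣ orderOf g → χ.1 g = (f g + k g - 1 : ℤ) := fun χ h g hg => by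
    have h1 := D.rel χ h g hg
    rw [sX, D.ε_one, e1, e2, e3, irrOne_apply, hf, hk] at h1
    push_cast at h1 ⊢
    linear_combination -h1
  have f1 : f 1 = a := by
    rw [← da]; exact_mod_cast (hf 1).symm.trans (dg_cast φ).symm
  have k1 : k 1 = b := by
    rw [← db]; exact_mod_cast (hk 1).symm.trans (dg_cast ψ).symm
  have tY : D.Y.card = t := by have := D.cardY; rw [he] at this; omega
  have pw : ∀ {χ : IrrCharacter G} {f : G → ℤ}, (∀ g, χ.1 g = f g) → ∀ (g : G) (n : ℕ),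
      n.Coprime (orderOf g) → f (g ^ n) = f g := fun {χ f} hf g n hn => by
    have := χ.2.isGen.pow_eq_of_rat g (q := f g) (by simpa using hf g) hn
    rw [hf, hf] at this
    exact_mod_cast this
  have cl : ∀ {χ : IrrCharacter G} {f : G → ℤ}, (∀ g, χ.1 g = f g) → ∀ g h : G,
      f (g * h * g⁻¹) = f h := fun {χ f} hf g h => by
    have := χ.2.isClassFunction h g
    rw [hf, hf] at this
    exact_mod_cast this
  refine ⟨⟨f, k, card, fun g g1 h => ?_, f1, k1, cl hf, cl hk, pw hf, pw hk,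
    fun q n g hq h => f1 ▸ int_cong hf hq n g h, fun q n g hq h => k1 ▸ int_cong hk hq n g h,
    int_sum hf, int_sum hk, fun g => da ▸ card ▸ int_omega (hf g),
    fun g => db ▸ card ▸ int_omega (hk g), fun g hg => dc ▸ card ▸ int_omega (vY θ hθ g hg),
    fun q g hq h1 h2 => ?_, fun q g hq h1 h2 => ?_, fun q g hq h1 h2 h3 => ?_,
    fun g h hg hh => ⟨pairs g h u, ?_, fun h1 h2 => ?_⟩, fun g hg => ?_, fun h => ?_⟩⟩
  · refine ord g (by_contra fun h2 => ?_)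
    obtain ⟨v, hv⟩ := exists_prime_orderOf_dvd_card' (G := centralizer ({g} : Set G)) p h
    rw [← orderOf_coe] at hv
    have e := Commute.orderOf_mul_eq_mul_orderOf_of_coprime (mem_centralizer_singleton_iff.1 v.2)
      (by rw [hv]; exact (Nat.Prime.coprime_iff_not_dvd hp.out).2 h2)
    rw [ord _ (by rw [e, hv]; exact dvd_mul_right _ _), hv] at e
    exact g1 (orderOf_eq_one_iff.1 (Nat.eq_of_mul_eq_mul_left hp.out.pos (by omega)))
  · exact_mod_cast (hf g).symm.trans (int_zero hq (by rwa [da, card]) h2)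
  · exact_mod_cast (hk g).symm.trans (int_zero hq (by rwa [db, card]) h2)
  · exact_mod_cast (vY θ hθ g h3).symm.trans (int_zero hq (by rwa [dc, card]) h2)
  · have h2 := card_class_pairs g h u
    have h5 := congrArg conj (D.sumY' (mem_zpowers u) (Grp.SelfCent.ne_one D.ox))
    rw [map_sum, map_neg, map_intCast, e3] at h5
    rw [← Finset.sum_subset (D.X ∪ D.Y).subset_univ fun χ _ hχ => by
        rw [Finset.mem_union, not_or] at hχ
        rw [D.out hC χ hχ.1 hχ.2 u up]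
        simp, Finset.sum_union D.disj, sX,
      Finset.sum_congr rfl (g := fun χ : IrrCharacter G =>
        (f g + k g - 1 : ℤ) * (f h + k h - 1 : ℤ) / c * conj (χ.1 u)) fun χ hχ => by
          rw [vY χ hχ g hg, vY χ hχ h hh, ← dg_cast, dY χ hχ]
          ring, ← Finset.mul_sum, h5, vφ, vψ, hf, hf, hk, hk, ← dg_cast φ, ← dg_cast ψ, da, db,
      map_intCast] at h2
    simp only [irrOne_apply, map_one, mul_one, div_one] at h2
    have i1 : ∀ g : G, (Nat.card {x : G // IsConj g x} : ℂ) = (p * m : ℕ) / cc g := fun g => by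
      rw [eq_div_iff (Nat.cast_ne_zero.2 Nat.card_pos.ne'), ← card,
        ← (centralizer ({g} : Set G)).index_mul_card, ← ncard_isConj]
      push_cast
      rfl
    have c0 : ∀ g : G, (cc g : ℂ) ≠ 0 := fun g => Nat.cast_ne_zero.2 Nat.card_pos.ne'
    have a0 : (a : ℂ) ≠ 0 := Nat.cast_ne_zero.2 (da ▸ (dg_pos φ).ne')
    have b0 : (b : ℂ) ≠ 0 := Nat.cast_ne_zero.2 (db ▸ (dg_pos ψ).ne')
    have d0 : (c : ℂ) ≠ 0 := Nat.cast_ne_zero.2 (dc ▸ (dg_pos θ).ne')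
    have N0 : ((p * m : ℕ) : ℂ) ≠ 0 := Nat.cast_ne_zero.2 (card ▸ Nat.card_pos.ne')
    have h4 : ((pairs g h u * (cc g * cc h) * (a * b * c) : ℕ) : ℂ) = (p * m : ℕ) *
        ((a * b * c : ℕ) - (b * c : ℕ) * (f g * f h) - (a * c : ℕ) * (k g * k h) +
          (a * b : ℕ) * ((f g + k g - 1) * (f h + k h - 1))) := by
      rw [Nat.cast_mul, Nat.cast_mul]
      unfold pairs
      rw [h2, i1, i1, card]
      have := c0 g
      have := c0 h
      generalize ((p * m : ℕ) : ℂ) = N at *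
      push_cast
      field_simp
      ring
    exact_mod_cast h4
  · have := pairs_eq_zero D.ox D.odd (by rw [D.he, he]; norm_num) (s := g) (t := h) (y := 1)
      (by rw [← sq, ← h1, pow_orderOf_eq_one]) (by rw [← sq, ← h2, pow_orderOf_eq_one])
      (mem_reg.2 ⟨one_mem _, by simpa using hp.out.ne_one⟩)
    rwa [mul_one] at this
  · have h1 := sum_irr_norm_sq g
    have h2 := Finset.sum_le_sum_of_subset_of_nonneg (f := fun χ : IrrCharacter G => ‖χ.1 g‖ ^ 2)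
      (D.X ∪ D.Y).subset_univ fun _ _ _ => sq_nonneg _
    rw [h1, Finset.sum_union D.disj, sX, Finset.sum_congr rfl (g := fun _ =>
      ((f g + k g - 1 : ℤ) : ℝ) ^ 2) fun χ hχ => by
        rw [vY χ hχ g hg, Complex.norm_intCast, sq_abs], Finset.sum_const, tY, hf, hk,
      Complex.norm_intCast, Complex.norm_intCast, sq_abs, sq_abs, irrOne_apply, norm_one,
      nsmul_eq_mul, one_pow, ← add_assoc] at h2
    exact_mod_cast h2
  · have h1 := SelfC.sum_deg_sq (G := G)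
    obtain ⟨χ, hχ⟩ : ∃ χ, χ ∉ D.X ∪ D.Y := by
      by_contra h2
      rw [← Finset.eq_univ_of_forall fun χ => not_not.1 (not_exists.1 h2 χ),
        Finset.sum_union D.disj, sX, Finset.sum_congr rfl (g := fun _ => (c : ℤ) ^ 2) fun χ hχ => by
          rw [← dY χ hχ], Finset.sum_const, tY, card] at h1
      change ((dg (irrOne G) : ℕ) : ℤ) ^ 2 + ((dg φ : ℕ) ^ 2 + (dg ψ : ℕ) ^ 2) + _ = _ at h1
      rw [dg_irrOne, da, db, nsmul_eq_mul] at h1
      have : 1 ^ 2 + (a ^ 2 + b ^ 2) + t * c ^ 2 = p * m := by exact_mod_cast h1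
      omega
    rw [Finset.mem_union, not_or] at hχ
    exact ⟨hp.out, _, ⟨χ, rfl⟩, D.dvd_of_not_mem D.ox hC hχ.1 hχ.2⟩

/-- a finite check for `Uniq` -/
def Chk (p m B a b c : ℕ) : Prop :=
  ∀ x ∈ Small.Sieve.divs m B, ∀ ε ∈ [(1 : ℤ), -1], (x : ℤ) % p = ε % p → 1 < x →
    ∀ y ∈ Small.Sieve.divs m B, ∀ η ∈ [(1 : ℤ), -1], (y : ℤ) % p = η % p → x ≤ y →
      1 < (1 + ε * x + η * y).natAbs → m % (1 + ε * x + η * y).natAbs = 0 →
      x = a ∧ y = b ∧ 1 + ε * x + η * y = -c ∧ ε = -1 ∧ η = -1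

instance (p m B a b c : ℕ) : Decidable (Chk p m B a b c) := by unfold Chk; infer_instance

theorem Chk.uniq {p m B a b c : ℕ} (h : Chk p m B a b c) (h0 : 0 < m) (hB : m ≤ B * B) :
    Uniq p m a b c := by
  intro x y z ε η δ hx hy hz x1 _ z1 hxy h1 h2 h3 h4 h5 e
  have e1 : (1 + ε * x + η * y).natAbs = z := by
    rw [← e]; rcases h3 with rfl | rfl <;> simp
  obtain ⟨k1, k2, k3, k4, k5⟩ := h x (Small.Sieve.mem_divs hx h0 hB) ε (by simpa using h1) h4 x1 y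
    (Small.Sieve.mem_divs hy h0 hB) η (by simpa using h2) h5 hxy (e1 ▸ z1)
    (e1 ▸ Nat.mod_eq_zero_of_dvd hz)
  rw [← e] at k3
  rcases h3 with rfl | rfl
  · omega
  · exact ⟨k1, k2, by omega, k4, k5, rfl⟩

/-- a unique candidate for the number of Sylow subgroups -/
theorem exists_dat' [IsSimpleGroup G] (hG : ¬ IsMulCommutative G) [hp : Fact p.Prime] (h2 : p ≠ 2)
    {n B a b c t : ℕ} (h1 : Nat.card G ∣ p * (n * 3)) (hd : p ∣ Nat.card G) (hm : ¬ p ∣ n * 3)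
    (hB : n * 3 ≤ B * B) (hn : ∀ k ∈ Small.Sieve.divs (n * 3) B, k % p = 1 → 1 < k → k = n)
    (ht : t * 3 = p - 1) (hab : a ≠ b) (hac : a ≠ c) (hbc : b ≠ c) (hs : Chk p (n * 3) B a b c) :
    Nat.card G = p * (n * 3) ∧ Nonempty (Dat G p (n * 3) a b c t) := by
  have h0 : 0 < n * 3 := Nat.pos_of_ne_zero fun h => hm (h ▸ dvd_zero p)
  obtain ⟨x, ⟨D⟩⟩ := exists_BD hG p hd (fun h => hm (by
    have := h.trans h1
    rwa [sq, Nat.mul_dvd_mul_iff_left hp.out.pos] at this)) h2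
  obtain ⟨k1, k2, k3, -⟩ := D.data hG
  have h3 := D.card_G
  rw [h3, Nat.mul_dvd_mul_iff_left hp.out.pos, mul_assoc] at h1
  have h4 := hn _ (Small.Sieve.mem_divs ((dvd_mul_right _ _).trans h1) h0 hB) k1 k2
  rw [h4, Nat.mul_dvd_mul_iff_left (by omega)] at h1
  have h5 : D.e = 3 :=
    ((Nat.dvd_prime Nat.prime_three).1 ((dvd_mul_right _ _).trans h1)).resolve_left k3.ne'
  have h6 : D.c = 1 := by
    rw [h5] at h1
    exact Nat.dvd_one.1 ((Nat.mul_dvd_mul_iff_left (by norm_num : 0 < 3)).1 h1)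
  rw [h4, h5, h6, mul_one] at h3
  exact ⟨h3, exists_dat hG D h6 h5 h3 ht hab hac hbc (hs.uniq h0 hB)⟩

theorem exists_D7 [IsSimpleGroup G] (hG : ¬ IsMulCommutative G) (h1 : Nat.card G ∣ 5663616)
    (h2 : 43 ∣ Nat.card G) : Nat.card G = 5663616 ∧ Nonempty (D7 G) :=
  haveI : Fact (Nat.Prime 43) := ⟨by norm_num⟩
  exists_dat' (n := 43904) (B := 363) hG (by norm_num) h1 h2 (by norm_num) (by norm_num)
    (by decide +kernel) (by norm_num) (by norm_num) (by norm_num) (by norm_num) (by decide +kernel)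

theorem exists_D9 [IsSimpleGroup G] (hG : ¬ IsMulCommutative G) (h1 : Nat.card G ∣ 42573600)
    (h2 : 73 ∣ Nat.card G) : Nat.card G = 42573600 ∧ Nonempty (D9 G) :=
  haveI : Fact (Nat.Prime 73) := ⟨by norm_num⟩
  exists_dat' (n := 194400) (B := 764) hG (by norm_num) h1 h2 (by norm_num) (by norm_num)
    (by decide +kernel) (by norm_num) (by norm_num) (by norm_num) (by norm_num) (by decide +kernel)

theorem exists_D8_of [IsSimpleGroup G] (hG : ¬ IsMulCommutative G) [Fact (Nat.Prime 19)]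
    (h1 : Nat.card G = 5515776) (h : ∀ P : Sylow 19 G,
      Nat.card (centralizer ((P : Subgroup G) : Set G)) = 19 ∧
      (centralizer ((P : Subgroup G) : Set G)).relIndex
        (normalizer ((P : Subgroup G) : Set G)) = 3) : Nonempty (D8 G) := by
  obtain ⟨x, ⟨D⟩⟩ := exists_BD hG 19 (by rw [h1]; norm_num) (by rw [h1]; norm_num) (by norm_num)
  obtain ⟨P, hP⟩ := D.exists_sylow
  obtain ⟨h2, h3⟩ := h P
  rw [hP, Small.centralizer_zpowers] at h2 h3
  rw [D.card_C] at h2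
  exact exists_dat hG D (by omega) (D.he ▸ h3) h1 (by norm_num) (by norm_num) (by norm_num)
    (by norm_num) (Chk.uniq (B := 539) (by decide +kernel) (by norm_num) (by norm_num))

end Cfsg.Agent.Tri
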